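import Groth.Agent.AssPts.Basic
import Groth.Prelude.Def_FlatMod2
import Mathlib.RingTheory.Flat.Localization

/-!
# Flatness over the base of a quasi-coherent module, read on affine charts
-/

set_option autoImplicit false
set_option linter.style.haveILetI false

noncomputable section

universe u

open CategoryTheory AlgebraicGeometry Opposite TopologicalSpace TensorProduct
open Groth.Agent.QCohBase Groth.Agent.AssPts

namespace Groth.Agent.FlatOver

/-- Localizations over the total ring keep flatness over the base. -/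
theorem flat_of_isLocalizedModule {R A M M' : Type u} [CommRing R] [CommRing A] [Algebra R A]
    [AddCommGroup M] [AddCommGroup M'] [Module R M] [Module A M] [IsScalarTower R A M]
    [Module R M'] [Module A M'] [IsScalarTower R A M'] (p : Submonoid A) (f : M →ₗ[A] M')
    [IsLocalizedModule p f] [Module.Flat R M] : Module.Flat R M' := by
  refine Module.Flat.iff_lTensor_injectiveₛ.mpr fun P _ _ N ↦ ?_
  rw [← AlgebraTensorModule.coe_lTensor (A := A)]
  have h : Function.Injective
      (AlgebraTensorModule.lTensor (R := R) A M N.subtype) := by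
    rw [AlgebraTensorModule.coe_lTensor]
    exact Module.Flat.lTensor_preserves_injective_linearMap _ N.injective_subtype
  have := IsLocalizedModule.map_injective p (AlgebraTensorModule.rTensor R N f)
    (AlgebraTensorModule.rTensor R P f) _ h
  rwa [IsLocalizedModule.map_lTensor] at this

variable {X S : Scheme.{u}}

section Stalk

variable (M : X.Modules) [M.IsQuasicoherent] {U : X.Opens}

/-- The stalk as a module over sections. -/
@[reducible]
def germModule (x : X) (hx : x ∈ U) : Module Γ(X, U) (M.presheaf.stalk x) :=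
  Module.compHom _ (X.presheaf.germ U x hx).hom

/-- The germ as a linear map. -/
def germₗ (x : X) (hx : x ∈ U) :
    letI := germModule M x hx
    Γ(M, U) →ₗ[Γ(X, U)] M.presheaf.stalk x :=
  letI := germModule M x hx
  { toFun := M.presheaf.germ U x hx
    map_add' := map_add _
    map_smul' := fun r s ↦ germ_smul' M x hx r s }

lemma isLocalizedModule_germₗ (hU : IsAffineOpen U) (x : X) (hx : x ∈ U) :
    letI := germModule M x hx
    IsLocalizedModule (hU.primeIdealOf ⟨x, hx⟩).asIdeal.primeCompl (germₗ M x hx) := by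
  letI := germModule M x hx
  refine ⟨?_, fun z ↦ ?_, fun {a b} hab ↦ ?_⟩
  · rintro ⟨g, hg⟩
    rw [Module.End.isUnit_iff]
    obtain ⟨v, hv⟩ := (notMem_prime_iff hU x hx g).1 hg
    have hsm : ∀ z : M.presheaf.stalk x, g • z = v.1 • z := fun z ↦ by
      change X.presheaf.germ U x hx g • z = v.1 • z
      rw [hv]
    constructor
    · intro a b hab
      have h1 : v.1 • a = v.1 • b := (hsm a).symm.trans (Eq.trans hab (hsm b))
      have h2 := congrArg (fun z ↦ v⁻¹.1 • z) h1
      simpa [← mul_smul] using h2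
    · intro b
      refine ⟨v⁻¹.1 • b, (hsm _).trans ?_⟩
      change v.1 • (v⁻¹.1 • b) = b
      rw [← mul_smul, Units.mul_inv, one_smul]
  · obtain ⟨g, s, hg, hs⟩ := exists_germ_smul_eq M hU x hx z
    exact ⟨⟨s, ⟨g, hg⟩⟩, hs⟩
  · have h0 : M.presheaf.germ U x hx (a - b) = 0 := by
      rw [map_sub]
      exact sub_eq_zero.mpr hab
    obtain ⟨g, hg, hgs⟩ := (germ_eq_zero_iff M hU x hx _).1 h0
    exact ⟨⟨g, hg⟩, by rwa [smul_sub, sub_eq_zero] at hgs⟩

end Stalk

variable (f : X ⟶ S) (M : X.Modules)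

lemma germ_appLE_stalkMap {U : X.Opens} {V : S.Opens} (e : U ≤ f ⁻¹ᵁ V) (x : X) (hx : x ∈ U)
    (r : Γ(S, V)) :
    f.stalkMap x (S.presheaf.germ V (f x) (e hx) r) = X.presheaf.germ U x hx (f.appLE V U e r) := by
  rw [Scheme.Hom.germ_stalkMap_apply f V x (e hx) r]
  exact (TopCat.Presheaf.germ_res_apply X.presheaf (homOfLE e) x hx (f.app V r)).symm

/-- Sections as a module over sections on the base. -/
@[reducible]
def baseModule {U : X.Opens} {V : S.Opens} (e : U ≤ f ⁻¹ᵁ V) : Module Γ(S, V) Γ(M, U) :=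
  Module.compHom _ (f.appLE V U e).hom

variable [M.IsQuasicoherent] {U : X.Opens} {V : S.Opens} (e : U ≤ f ⁻¹ᵁ V)

/-- Flatness at a point can be read after replacing the local ring of the base by sections. -/
lemma isFlatOverAt_iff (hV : IsAffineOpen V) (x : X) (hx : x ∈ U) :
    FlatMod.IsFlatOverAt f M x ↔
      (letI : Module Γ(S, V) (M.presheaf.stalk x) :=
        Module.compHom _ ((f.appLE V U e) ≫ X.presheaf.germ U x hx).hom
       Module.Flat Γ(S, V) (M.presheaf.stalk x)) := by
  letI : Module Γ(S, V) (M.presheaf.stalk x) :=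
    Module.compHom _ ((f.appLE V U e) ≫ X.presheaf.germ U x hx).hom
  letI := FlatMod.moduleStalkOver f M x
  letI : Algebra Γ(S, V) (S.presheaf.stalk (f x)) :=
    (S.presheaf.germ V (f x) (e hx)).hom.toAlgebra
  haveI : IsLocalization.AtPrime (S.presheaf.stalk (f x)) (hV.primeIdealOf ⟨f x, e hx⟩).asIdeal :=
    hV.isLocalization_stalk ⟨f x, e hx⟩
  haveI : IsScalarTower Γ(S, V) (S.presheaf.stalk (f x)) (M.presheaf.stalk x) :=
    .of_algebraMap_smul fun r z ↦ congrArg (· • z) (germ_appLE_stalkMap f e x hx r)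
  exact Module.flat_iff_of_isLocalization (S.presheaf.stalk (f x))
    (hV.primeIdealOf ⟨f x, e hx⟩).asIdeal.primeCompl (M.presheaf.stalk x)

/-- Flat sections give flat stalks. -/
lemma isFlatOverAt_of_flat (hU : IsAffineOpen U) (hV : IsAffineOpen V) (x : X) (hx : x ∈ U)
    (h : letI := baseModule f M e; Module.Flat Γ(S, V) Γ(M, U)) :
    FlatMod.IsFlatOverAt f M x := by
  rw [isFlatOverAt_iff f M e hV x hx]
  letI : Algebra Γ(S, V) Γ(X, U) := (f.appLE V U e).hom.toAlgebra
  letI := baseModule f M e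
  haveI := h
  letI := germModule M x hx
  letI : Module Γ(S, V) (M.presheaf.stalk x) :=
    Module.compHom _ ((f.appLE V U e) ≫ X.presheaf.germ U x hx).hom
  haveI : IsScalarTower Γ(S, V) Γ(X, U) Γ(M, U) := .of_algebraMap_smul fun _ _ ↦ rfl
  haveI : IsScalarTower Γ(S, V) Γ(X, U) (M.presheaf.stalk x) := .of_algebraMap_smul fun _ _ ↦ rfl
  haveI := isLocalizedModule_germₗ M hU x hx
  exact flat_of_isLocalizedModule (R := Γ(S, V)) (hU.primeIdealOf ⟨x, hx⟩).asIdeal.primeCompl
    (germₗ M x hx)

/-- Flat stalks on an affine chart give flat sections. -/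
lemma flat_of_isFlatOverAt (hU : IsAffineOpen U) (hV : IsAffineOpen V)
    (h : ∀ x ∈ U, FlatMod.IsFlatOverAt f M x) :
    letI := baseModule f M e
    Module.Flat Γ(S, V) Γ(M, U) := by
  letI : Algebra Γ(S, V) Γ(X, U) := (f.appLE V U e).hom.toAlgebra
  letI := baseModule f M e
  haveI : IsScalarTower Γ(S, V) Γ(X, U) Γ(M, U) := .of_algebraMap_smul fun _ _ ↦ rfl
  have hpt : ∀ (P : Ideal Γ(X, U)) [P.IsMaximal], ∃ (x : X) (hx : x ∈ U),
      (hU.primeIdealOf ⟨x, hx⟩).asIdeal = P := fun P _ ↦ exists_point hU P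
  choose pt hpt' heq using hpt
  letI : ∀ (P : Ideal Γ(X, U)) [P.IsMaximal], Module Γ(X, U) (M.presheaf.stalk (pt P)) :=
    fun P _ ↦ germModule M (pt P) (hpt' P)
  letI : ∀ (P : Ideal Γ(X, U)) [P.IsMaximal], Module Γ(S, V) (M.presheaf.stalk (pt P)) :=
    fun P _ ↦ Module.compHom _ ((f.appLE V U e) ≫ X.presheaf.germ U (pt P) (hpt' P)).hom
  haveI : ∀ (P : Ideal Γ(X, U)) [P.IsMaximal],
      IsScalarTower Γ(S, V) Γ(X, U) (M.presheaf.stalk (pt P)) :=
    fun P _ ↦ .of_algebraMap_smul fun _ _ ↦ rfl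
  haveI : ∀ (P : Ideal Γ(X, U)) [P.IsMaximal],
      IsLocalizedModule.AtPrime P (germₗ M (pt P) (hpt' P)) := fun P _ ↦ by
    have := isLocalizedModule_germₗ M hU (pt P) (hpt' P)
    simp only [heq P] at this
    exact this
  exact Module.flat_of_isLocalized_maximal _ _ (fun P _ ↦ M.presheaf.stalk (pt P))
    (fun P _ ↦ germₗ M (pt P) (hpt' P))
    fun P _ ↦ (isFlatOverAt_iff f M e hV (pt P) (hpt' P)).1 (h _ (hpt' P))

end Groth.Agent.FlatOver
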